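import Cfsg.Agent.Lib.Solv.SquarefreeClass.PrimePower

/-!
Soluble groups with all class sizes square-free: the derived group is cyclic of square-free order
and contains the information about `G / F(G)`.
-/

set_option autoImplicit false
set_option linter.style.haveILetI false
set_option linter.unusedSectionVars false

namespace Cfsg.Agent.Solv.SquarefreeClass

open Subgroup
open scoped commutatorElement

universe u

variable {G : Type u} [Group G] [Finite G]

theorem pp_of_all (h : ∀ x : G, Squarefree (centralizer ({x} : Set G)).index) :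
    PPSquarefree G := fun x _ => h x

theorem commutator_card_of_core (hss : Cfsg.IsSupersolvable G) (hsolv : Group.IsSolvable G)
    (h : ∀ x : G, Squarefree (centralizer ({x} : Set G)).index) (r : ℕ) [hr : Fact r.Prime]
    (hcore : Cfsg.pPrimeCore r G = ⊥) : Nat.card (commutator G) ∣ r := by
  classical
  haveI := pCore_normal (G := G) r
  have hpp := pp_of_all h
  have hF : Cfsg.fittingSubgroup G = Cfsg.pCore r G := by
    refine le_antisymm ?_ (pCore_le_fitting r)
    rw [fitting_eq_iSup_pCore, iSup_le_iff]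
    intro s
    by_cases hs : (s : ℕ) = r
    · rw [hs]
    · haveI := Fact.mk s.2
      haveI := pCore_normal (G := G) (s : ℕ)
      obtain ⟨n, hn⟩ := IsPGroup.iff_card.mp (pCore_isPGroup (G := G) (s : ℕ))
      have h1 : Cfsg.pCore (s : ℕ) G ≤ Cfsg.pPrimeCore r G :=
        normal_le_pPrimeCore (hn ▸ Nat.Coprime.pow_left _ ((Nat.coprime_primes s.2 hr.out).mpr hs))
      rw [hcore] at h1
      exact h1.trans bot_le
  set P := Cfsg.pCore r G with hPdef
  have hP : IsPGroup r P := pCore_isPGroup r
  have hGP : commutator G ≤ P := hF ▸ commutator_le_fitting hss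
  -- `P` is a Sylow subgroup
  obtain ⟨S, hS⟩ := hP.exists_le_sylow
  haveI : (S : Subgroup G).Normal := ⟨fun x hx g => by
    have h1 : g * x * g⁻¹ * x⁻¹ ∈ (S : Subgroup G) :=
      hS (hGP (Subgroup.commutator_mem_commutator (mem_top g) (mem_top x)))
    simpa using mul_mem h1 hx⟩
  have hSP : (S : Subgroup G) = P := le_antisymm (normal_le_pCore S.isPGroup') hS
  have hcop : (Nat.card P).Coprime P.index := hSP ▸ S.card_coprime_index
  obtain ⟨H, hH⟩ := Subgroup.exists_right_complement'_of_coprime hcop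
  have hHidx : P.index = Nat.card H := hH.symm.index_eq_card
  have hsupPH : P ⊔ H = ⊤ := hH.sup_eq_top
  have hHab : ∀ a ∈ H, ∀ b ∈ H, a * b = b * a := by
    intro a ha b hb
    rw [← commutatorElement_eq_one_iff_mul_comm, ← Subgroup.mem_bot,
      ← (hH.disjoint).eq_bot]
    exact ⟨hGP (Subgroup.commutator_mem_commutator (mem_top a) (mem_top b)),
      H.mul_mem (H.mul_mem (H.mul_mem ha hb) (H.inv_mem ha)) (H.inv_mem hb)⟩
  obtain ⟨hP'card, hP'Z⟩ := commutator_pCore hpp r
  by_cases hH1 : H = ⊥
  · have hPt : P = ⊤ := by rw [← hsupPH, hH1, sup_bot_eq]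
    rw [← hPdef, hPt] at hP'card
    exact hP'card
  obtain ⟨⟨h0, hh0⟩, hh0'⟩ := Subgroup.ne_bot_iff_exists_ne_one.mp hH1
  have hh01 : h0 ≠ 1 := fun e => hh0' (Subtype.ext e)
  let α : G →* MulAut P := MulAut.conjNormal
  have hfaith : ∀ a ∈ H, α a = 1 → a = 1 := by
    intro a ha h1
    have h2 : a ∈ centralizer (P : Set G) := mem_centralizer_iff.mpr fun n hn => by
      have h3 := congrArg Subtype.val (DFunLike.congr_fun h1 (⟨n, hn⟩ : P))
      simp only [α, MulAut.conjNormal_apply, MulAut.one_apply] at h3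
      exact (mul_inv_eq_iff_eq_mul.mp h3).symm
    have h4 : a ∈ P := hF ▸ centralizer_fitting_le hsolv (by rwa [hF])
    exact Subgroup.disjoint_def.mp hH.disjoint h4 ha
  have hco : ∀ a ∈ H, (Nat.card P).Coprime (orderOf a) := fun a ha =>
    hcop.coprime_dvd_right (hHidx ▸ Subgroup.orderOf_dvd_natCard H ha)
  have hαm : ∀ a, α a ^ orderOf a = 1 := fun a => by rw [← map_pow, pow_orderOf_eq_one, map_one]
  have hdvd : ∀ g : G, (fixedBy (α g)).index ∣ r := fun g => by
    show (fixedBy (MulAut.conjNormal g : MulAut P)).index ∣ r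
    rw [fixedBy_conjNormal]
    exact relIndex_dvd_prime hP (h g)
  have hidx : ∀ a ∈ H, a ≠ 1 → (fixedBy (α a)).index = r := by
    intro a ha ha1
    refine ((Nat.dvd_prime hr.out).mp (hdvd a)).resolve_left fun h1 => ha1 (hfaith a ha ?_)
    rw [Subgroup.index_eq_one] at h1
    exact DFunLike.ext _ _ fun x => (h1.symm ▸ mem_top x : x ∈ fixedBy (α a))
  set C := fixedBy (α h0) with hCdef
  have hCall : ∀ a ∈ H, a ≠ 1 → fixedBy (α a) = C := by
    intro a ha ha1
    refine fixedBy_eq hP ((show Commute a h0 from hHab a ha h0 hh0).map α) (hαm h0) (hco h0 hh0)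
      (hidx a ha ha1) (hidx h0 hh0 hh01) ?_
    rw [← map_mul]
    exact hdvd _
  have hCidx : C.index = r := hidx h0 hh0 hh01
  haveI := normal_of_index_prime hP hCidx
  have hmemC : ∀ z : P, z ∈ C ↔ h0 * (z : G) = (z : G) * h0 := by
    intro z
    show α h0 z = z ↔ _
    rw [Subtype.ext_iff, MulAut.conjNormal_apply, mul_inv_eq_iff_eq_mul]
  -- the fixed points commute
  have hCab : ∀ z ∈ C, C ≤ centralizer ({z} : Set P) := by
    intro z hz
    have hcz : Commute (z : G) h0 := ((hmemC z).mp hz).symm
    set g := (z : G) * h0 with hg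
    have hh0g : h0 ∈ zpowers g := by
      have h1 : g ^ orderOf (z : G) = h0 ^ orderOf (z : G) := by
        rw [hcz.mul_pow, pow_orderOf_eq_one, one_mul]
      have h2 : (orderOf h0).Coprime (orderOf (z : G)) :=
        ((hco h0 hh0).coprime_dvd_left (Subgroup.orderOf_dvd_natCard P z.2)).symm
      obtain ⟨m, hm⟩ := exists_pow_eq_self_of_coprime h2.symm
      rw [← hm, ← h1]
      exact pow_mem (pow_mem (mem_zpowers g) _) _
    have hzg : (z : G) ∈ zpowers g := by
      have : (z : G) = g * h0⁻¹ := by rw [hg, mul_inv_cancel_right]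
      rw [this]
      exact mul_mem (mem_zpowers g) (inv_mem hh0g)
    have hsub : ∀ x : P, x ∈ fixedBy (α g) → x ∈ C ∧ x ∈ centralizer ({z} : Set P) := by
      intro x hx
      have h1 : Commute (x : G) g := by
        have h2 := congrArg Subtype.val (show α g x = x from hx)
        rw [MulAut.conjNormal_apply] at h2
        exact (mul_inv_eq_iff_eq_mul.mp h2).symm
      obtain ⟨i, hi⟩ := hh0g
      obtain ⟨j, hj⟩ := hzg
      refine ⟨(hmemC x).mpr (hi ▸ (h1.zpow_right i).eq.symm), ?_⟩
      rw [mem_centralizer_singleton_iff]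
      refine Subtype.ext ?_
      show (x : G) * z = z * x
      rw [← hj]
      exact (h1.zpow_right j).eq
    have hle : fixedBy (α g) ≤ C := fun x hx => (hsub x hx).1
    have heq : fixedBy (α g) = C := by
      refine Subgroup.eq_of_le_of_card_ge hle (Nat.le_of_mul_le_mul_left ?_ hr.out.pos)
      calc r * Nat.card C = C.index * Nat.card C := by rw [hCidx]
        _ = (fixedBy (α g)).index * Nat.card (fixedBy (α g)) := by
          rw [C.index_mul_card, (fixedBy (α g)).index_mul_card]
        _ ≤ r * Nat.card (fixedBy (α g)) :=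
          Nat.mul_le_mul_right _ (Nat.le_of_dvd hr.out.pos (hdvd g))
    exact fun x hx => (hsub x (heq.symm ▸ hx)).2
  -- `P` is abelian
  have hsup : ∀ u : P, u ∉ C → ∀ D : Subgroup P, C ≤ D → u ∈ D → D = ⊤ := by
    intro u hu D hCD huD
    rw [← Subgroup.index_eq_one]
    refine ((Nat.dvd_prime hr.out).mp (hCidx ▸ Subgroup.index_dvd_of_le hCD)).resolve_right ?_
    intro h1
    refine hu ((Subgroup.eq_of_le_of_card_ge hCD ?_).symm ▸ huD)
    have e1 := C.index_mul_card
    have e2 := D.index_mul_card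
    rw [hCidx] at e1; rw [h1] at e2
    exact (Nat.eq_of_mul_eq_mul_left hr.out.pos (e2.trans e1.symm)).le
  have hP'c : commutator P ≤ center P ∧ ∀ w ∈ commutator P, w ^ r = 1 := by
    refine ⟨fun w hw => mem_center_iff.mpr fun y => Subtype.ext ?_, fun w hw => ?_⟩
    · have h1 : (w : G) ∈ ⁅P, P⁆ := Subgroup.map_subtype_commutator P ▸ mem_map_of_mem _ hw
      exact mem_centralizer_iff.mp (hP'Z h1) y.1 y.2
    · refine orderOf_dvd_iff_pow_eq_one.mp ((Subgroup.orderOf_dvd_natCard _ hw).trans ?_)
      rw [← Subgroup.map_subtype_commutator,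
        Subgroup.card_map_of_injective P.subtype_injective] at hP'card
      exact hP'card
  have huz : ∀ u : P, u ∉ C → ∀ z ∈ C, u * z = z * u := by
    intro u hu z hz
    rw [← commutatorElement_eq_one_iff_mul_comm]
    set w := ⁅u, z⁆ with hw
    have hwP' : w ∈ commutator P := Subgroup.commutator_mem_commutator (mem_top u) (mem_top z)
    have hwC : w ∈ C :=
      mul_mem (‹C.Normal›.conj_mem z hz u) (inv_mem hz)
    -- `α h0 u` lies in a coset `u ^ i C`
    haveI : IsCyclic (P ⧸ C) := isCyclic_of_prime_card hCidx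
    obtain ⟨i, hi⟩ : ((α h0 u : P) : P ⧸ C) ∈ zpowers ((u : P) : P ⧸ C) :=
      mem_zpowers_of_prime_card hCidx (fun e => hu ((QuotientGroup.eq_one_iff u).mp e))
    obtain ⟨c, hc, hαu⟩ : ∃ c ∈ C, α h0 u = u ^ i * c := by
      refine ⟨(u ^ i)⁻¹ * α h0 u, ?_, (mul_inv_cancel_left _ _).symm⟩
      rw [← QuotientGroup.eq, QuotientGroup.mk_zpow]
      exact hi
    let ψ : P →* P :=
      { toFun := fun b => ⁅b, z⁆
        map_one' := commutatorElement_one_left z
        map_mul' := fun a b => by
          have hb : ⁅b, z⁆ ∈ center P :=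
            hP'c.1 (Subgroup.commutator_mem_commutator (mem_top b) (mem_top z))
          have h1 : ⁅a * b, z⁆ = a * ⁅b, z⁆ * a⁻¹ * ⁅a, z⁆ := by
            simp only [commutatorElement_def]; group
          rw [h1, mem_center_iff.mp hb a, mul_inv_cancel_right,
            mem_center_iff.mp hb ⁅a, z⁆] }
    have hψc : ψ c = 1 := commutatorElement_eq_one_iff_mul_comm.mpr
      (mem_centralizer_singleton_iff.mp (hCab z hz hc))
    have hwi : w = w ^ i := by
      calc w = α h0 w := (show α h0 w = w from hwC).symm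
        _ = ⁅α h0 u, α h0 z⁆ := map_commutatorElement _ _ _
        _ = ψ (u ^ i * c) := by rw [hαu, show α h0 z = z from hz]; rfl
        _ = w ^ i := by rw [map_mul, hψc, mul_one, map_zpow]; rfl
    have h1 : w ^ (i - 1) = 1 := by rw [zpow_sub_one, ← hwi, mul_inv_cancel]
    have h2 : ¬ (r : ℤ) ∣ i - 1 := by
      rintro ⟨m, hm⟩
      have hpow : u ^ (r : ℤ) ∈ C := by
        rw [← QuotientGroup.eq_one_iff, QuotientGroup.mk_zpow, zpow_natCast, ← hCidx]
        exact pow_card_eq_one'
      have hc' : u⁻¹ * α h0 u ∈ C := by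
        rw [hαu, show i = 1 + (r : ℤ) * m by omega, zpow_add, zpow_one, zpow_mul, mul_assoc,
          inv_mul_cancel_left]
        exact mul_mem (zpow_mem hpow m) hc
      have h3 := eq_one_of_coprime (hαm h0) (hco h0 hh0) (x := u) (i := u⁻¹ * α h0 u) hc'
        (mul_inv_cancel_left _ _).symm
      exact hu (inv_mul_eq_one.mp h3).symm
    have h3 : orderOf w ∣ r := orderOf_dvd_of_pow_eq_one (hP'c.2 w hwP')
    rcases (Nat.dvd_prime hr.out).mp h3 with h4 | h4
    · exact orderOf_eq_one_iff.mp h4
    · exact absurd (h4 ▸ orderOf_dvd_iff_zpow_eq_one.mpr h1) h2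
  have hPab : ∀ a b : P, a * b = b * a := by
    have hcen : ∀ a : P, centralizer ({a} : Set P) = ⊤ := by
      intro a
      obtain ⟨u, hu⟩ : ∃ u : P, u ∉ C := by
        by_contra h1
        push Not at h1
        rw [show C = ⊤ from eq_top_iff.mpr fun x _ => h1 x, Subgroup.index_top] at hCidx
        exact hr.out.one_lt.ne hCidx
      by_cases ha : a ∈ C
      · exact hsup u hu _ (hCab a ha) (mem_centralizer_singleton_iff.mpr (huz u hu a ha))
      · exact hsup a ha _ (fun z hz => mem_centralizer_singleton_iff.mpr (huz a ha z hz).symm)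
          (mem_centralizer_singleton_iff.mpr rfl)
    exact fun a b => mem_centralizer_singleton_iff.mp ((hcen b).symm ▸ mem_top a)
  -- the line moved by the complement
  let φ : G → (P →* P) := fun g =>
    { toFun := fun n => α g n * n⁻¹
      map_one' := by rw [map_one, inv_one, mul_one]
      map_mul' := fun a b => by
        rw [map_mul, mul_inv_rev, mul_assoc, mul_assoc, ← mul_assoc (α g b), hPab _ a⁻¹] }
  have hφker : ∀ g, (φ g).ker = fixedBy (α g) := fun g => by
    ext n
    exact mul_inv_eq_one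
  have hrange : ∀ a ∈ H, a ≠ 1 → Nat.card (φ a).range = r := fun a ha ha1 => by
    rw [← Subgroup.index_ker, hφker, hidx a ha ha1]
  set L := (φ h0).range with hLdef
  have hLC : ∀ x ∈ L, x ∈ C → x = 1 := by
    rintro _ ⟨n, rfl⟩ hx
    exact eq_one_of_coprime (hαm h0) (hco h0 hh0) (x := n) hx (by
      show α h0 n = n * (α h0 n * n⁻¹)
      rw [hPab, mul_assoc, inv_mul_cancel, mul_one])
  have hLinv : ∀ a ∈ H, ∀ x ∈ L, α a x ∈ L := by
    rintro a ha _ ⟨n, rfl⟩
    refine ⟨α a n, ?_⟩
    show α h0 (α a n) * (α a n)⁻¹ = α a (α h0 n * n⁻¹)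
    rw [map_mul, map_inv, ← MulAut.mul_apply, ← MulAut.mul_apply, ← map_mul, ← map_mul,
      hHab h0 hh0 a ha]
  have hφmem : ∀ a ∈ H, ∀ n : P, φ a n ∈ L := by
    intro a ha n
    by_cases ha1 : a = 1
    · have : φ a n = 1 := by
        show α a n * n⁻¹ = 1
        rw [ha1, map_one, MulAut.one_apply, mul_inv_cancel]
      rw [this]; exact one_mem L
    obtain ⟨⟨x, hx⟩, hx1⟩ : ∃ x : L, x ≠ 1 := by
      haveI : Nontrivial L :=
        Finite.one_lt_card_iff_nontrivial.mp (hrange h0 hh0 hh01 ▸ hr.out.one_lt)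
      exact exists_ne 1
    have hx1' : x ≠ 1 := fun e => hx1 (Subtype.ext e)
    have hy1 : φ a x ≠ 1 := fun e => hx1' (hLC x hx (hCall a ha ha1 ▸ (hφker a ▸ e : x ∈ fixedBy (α a))))
    have hyL : φ a x ∈ L := mul_mem (hLinv a ha x hx) (inv_mem hx)
    have hyM : φ a x ∈ (φ a).range := ⟨x, rfl⟩
    have key : ∀ K : Subgroup P, Nat.card K = r → φ a x ∈ K → K = zpowers (φ a x) := by
      intro K hK hm
      refine (Subgroup.eq_of_le_of_card_ge (zpowers_le.mpr hm) ?_).symm
      rw [hK, Nat.card_zpowers]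
      rcases (Nat.dvd_prime hr.out).mp (hK ▸ Subgroup.orderOf_dvd_natCard K hm) with h2 | h2
      · exact absurd (orderOf_eq_one_iff.mp h2) hy1
      · exact h2.ge
    rw [key L (hrange h0 hh0 hh01) hyL, ← key _ (hrange a ha ha1) hyM]
    exact ⟨n, rfl⟩
  let L' : Subgroup G := L.map P.subtype
  haveI : L'.Normal := by
    rw [← Subgroup.normalizer_eq_top_iff, eq_top_iff, ← hsupPH]
    refine sup_le (fun p hp => Subgroup.mem_normalizer_fintype ?_)
      (fun a ha => Subgroup.mem_normalizer_fintype ?_)
    · rintro _ ⟨x, hx, rfl⟩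
      refine ⟨x, hx, ?_⟩
      have := congrArg Subtype.val (hPab ⟨p, hp⟩ x)
      show (x : G) = p * x * p⁻¹
      rw [show p * (x : G) = x * p from this, mul_inv_cancel_right]
    · rintro _ ⟨x, hx, rfl⟩
      exact ⟨α a x, hLinv a ha x hx, MulAut.conjNormal_apply a x⟩
  have hG' : commutator G ≤ L' := by
    let π := QuotientGroup.mk' L'
    have hcommPH : ∀ p ∈ P, ∀ a ∈ H, π a * π p = π p * π a := by
      intro p hp a ha
      rw [← commutatorElement_eq_one_iff_mul_comm, ← map_commutatorElement]
      exact (QuotientGroup.eq_one_iff _).mpr ⟨φ a ⟨p, hp⟩, hφmem a ha _, rfl⟩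
    have hle : (⊤ : Subgroup G).map π ≤ centralizer ((⊤ : Subgroup G).map π : Set (G ⧸ L')) := by
      rw [← hsupPH, Subgroup.map_sup, sup_le_iff]
      refine ⟨?_, ?_⟩ <;> rw [Subgroup.le_centralizer_iff, sup_le_iff] <;>
        refine ⟨?_, ?_⟩ <;> rintro _ ⟨b, hb, rfl⟩ <;> refine mem_centralizer_iff.mpr ?_ <;>
        rintro _ ⟨a, ha, rfl⟩
      · rw [← map_mul, ← map_mul]
        exact congrArg π (congrArg Subtype.val (hPab ⟨a, ha⟩ ⟨b, hb⟩))
      · exact (hcommPH a ha b hb).symm
      · exact hcommPH b hb a ha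
      · rw [← map_mul, ← map_mul]
        exact congrArg π (hHab a ha b hb)
    rw [← Subgroup.commutator_eq_bot_iff_le_centralizer, ← Subgroup.map_commutator,
      Subgroup.map_eq_bot_iff, QuotientGroup.ker_mk'] at hle
    exact hle
  refine (Subgroup.card_dvd_of_le hG').trans ?_
  rw [Subgroup.card_map_of_injective P.subtype_injective, hrange h0 hh0 hh01]

/-- The derived group has square-free order. -/
theorem squarefree_commutator (hss : Cfsg.IsSupersolvable G) (hsolv : Group.IsSolvable G)
    (h : ∀ x : G, Squarefree (centralizer ({x} : Set G)).index) :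
    Squarefree (Nat.card (commutator G)) := by
  rw [Nat.squarefree_iff_prime_squarefree]
  intro r hr hdvd
  haveI := Fact.mk hr
  haveI := pPrimeCore_normal (G := G) r
  let π := QuotientGroup.mk' (Cfsg.pPrimeCore r G)
  have hπ : Function.Surjective π := QuotientGroup.mk'_surjective _
  haveI : Group.IsSolvable (G ⧸ Cfsg.pPrimeCore r G) := by
    haveI := hsolv
    exact Group.isSolvable_of_surjective hπ
  have hcore : Cfsg.pPrimeCore r (G ⧸ Cfsg.pPrimeCore r G) = ⊥ := by
    haveI := pPrimeCore_normal (G := G ⧸ Cfsg.pPrimeCore r G) r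
    set K := (Cfsg.pPrimeCore r (G ⧸ Cfsg.pPrimeCore r G)).comap π with hK
    haveI : K.Normal := Subgroup.Normal.comap inferInstance π
    have hKc : (Nat.card K).Coprime r := by
      have h1 : Nat.card K ∣ Nat.card (Cfsg.pPrimeCore r G) *
          Nat.card (Cfsg.pPrimeCore r (G ⧸ Cfsg.pPrimeCore r G)) :=
        (Perm.card_comap_mk' (Cfsg.pPrimeCore r G) _).dvd
      exact (Nat.Coprime.mul_left (pPrimeCore_coprime r) (pPrimeCore_coprime r)).coprime_dvd_left h1
    rw [← Subgroup.map_comap_eq_self_of_surjective hπ (Cfsg.pPrimeCore r (G ⧸ Cfsg.pPrimeCore r G)),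
      Subgroup.map_eq_bot_iff, QuotientGroup.ker_mk']
    exact normal_le_pPrimeCore hKc
  have hc := commutator_card_of_core (G := G ⧸ Cfsg.pPrimeCore r G)
    (Perm.isSupersolvable_quotient hss _) inferInstance (fun y => by
      obtain ⟨x, rfl⟩ := hπ y
      exact Squarefree.squarefree_of_dvd (index_map_centralizer_dvd π hπ x) (h x)) r hcore
  have himg : (commutator G).map π = commutator (G ⧸ Cfsg.pPrimeCore r G) := by
    rw [_root_.commutator_def, _root_.commutator_def, Subgroup.map_commutator,
      Subgroup.map_top_of_surjective π hπ]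
  have h1 : Nat.card (commutator G) ∣
      Nat.card (commutator (G ⧸ Cfsg.pPrimeCore r G)) * Nat.card (Cfsg.pPrimeCore r G) := by
    have h2 := ((π.ker).subgroupOf (commutator G)).index_mul_card
    rw [show ((π.ker).subgroupOf (commutator G)).index = π.ker.relIndex (commutator G) from rfl,
      Subgroup.relIndex_ker, himg] at h2
    rw [← h2]
    refine Nat.mul_dvd_mul_left _ ?_
    rw [← Subgroup.inf_subgroupOf_right,
      Nat.card_congr (Subgroup.subgroupOfEquivOfLe inf_le_right).toEquiv]
    exact Subgroup.card_dvd_of_le (inf_le_left.trans (by rw [QuotientGroup.ker_mk']))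
  have h2 : (r * r).Coprime (Nat.card (Cfsg.pPrimeCore r G)) :=
    Nat.Coprime.mul_left (pPrimeCore_coprime r).symm (pPrimeCore_coprime r).symm
  have h3 := Nat.le_of_dvd hr.pos ((h2.dvd_of_dvd_mul_right (hdvd.trans h1)).trans hc)
  have := hr.two_le
  nlinarith

/-- A nilpotent group of square-free order is cyclic. -/
theorem isCyclic_of_squarefree {A : Type u} [Group A] [Finite A] [Group.IsNilpotent A]
    (h : Squarefree (Nat.card A)) : IsCyclic A := by
  haveI := IsZGroup.of_squarefree h
  infer_instance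

theorem all_structure (hsolv : Group.IsSolvable G)
    (h : ∀ x : G, Squarefree (centralizer ({x} : Set G)).index) :
    Cfsg.IsSupersolvable G ∧ (Cfsg.fittingSubgroup G).Normal ∧
    (∀ _h : (Cfsg.fittingSubgroup G).Normal,
      IsCyclic (G ⧸ Cfsg.fittingSubgroup G) ∧ Squarefree (Cfsg.fittingSubgroup G).index) ∧
    IsCyclic (commutator G) ∧ Squarefree (Nat.card (commutator G)) ∧
    Subgroup.upperCentralSeries ↥(Cfsg.fittingSubgroup G) 2 = ⊤ ∧
    commutator ↥(commutator G) = ⊥ := by
  have hpp := pp_of_all h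
  have hss := isSupersolvable hsolv hpp
  haveI hnil := Perm.isNilpotent_commutator hss
  have hsq := squarefree_commutator hss hsolv h
  haveI hcyc := isCyclic_of_squarefree hsq
  refine ⟨hss, fittingSubgroup_normal, fun hn => ?_, hcyc, hsq, ?_, ?_⟩
  · haveI := hn
    obtain ⟨g, hg⟩ := (Subgroup.isCyclic_iff_exists_zpowers_eq_top _).mp hcyc
    have hC : centralizer ({g} : Set G) = centralizer (commutator G : Set G) := by
      rw [← hg, Subgroup.zpowers_eq_closure, Subgroup.centralizer_closure]
    have hle : centralizer (commutator G : Set G) ≤ Cfsg.fittingSubgroup G := by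
      refine normal_le_fitting (Subgroup.isNilpotent_of_ker_le_center
        (Abelianization.of : centralizer (commutator G : Set G) →* Abelianization _) ?_)
      rw [Abelianization.ker_of]
      refine Subgroup.commutator_le.mpr fun a _ b _ => ?_
      refine mem_center_iff.mpr fun c => Subtype.ext ?_
      exact (mem_centralizer_iff.mp c.2 _
        (Subgroup.commutator_mem_commutator (mem_top a.1) (mem_top b.1))).symm
    have hdvd : (Cfsg.fittingSubgroup G).index ∣ (centralizer ({g} : Set G)).index :=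
      Subgroup.index_dvd_of_le (hC ▸ hle)
    have hsqF := Squarefree.squarefree_of_dvd hdvd (h g)
    refine ⟨?_, hsqF⟩
    haveI : Group.IsNilpotent (G ⧸ Cfsg.fittingSubgroup G) := by
      haveI := (quotient_fitting hss hpp).1
      open scoped IsMulCommutative in
      infer_instance
    exact isCyclic_of_squarefree hsqF
  · have h1 := (commutator_fitting hpp).2
    refine eq_top_iff.mpr fun x _ => ?_
    rw [Subgroup.mem_upperCentralSeries_succ_iff]
    intro y
    rw [Subgroup.upperCentralSeries_one]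
    refine mem_center_iff.mpr fun c => Subtype.ext ?_
    exact mem_centralizer_iff.mp
      (h1 (Subgroup.commutator_mem_commutator x.2 y.2)) c.1 c.2
  · refine le_bot_iff.mp (Subgroup.commutator_le.mpr fun a _ b _ => ?_)
    rw [mem_bot, commutatorElement_eq_one_iff_mul_comm]
    obtain ⟨g, hg⟩ := (IsCyclic.exists_generator : ∃ g : commutator G, ∀ x, x ∈ zpowers g)
    obtain ⟨i, rfl⟩ := hg a
    obtain ⟨j, rfl⟩ := hg b
    exact zpow_mul_comm g i j

end Cfsg.Agent.Solv.SquarefreeClass
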