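import Cfsg.Agent.Lib.Solv.Basic
import Mathlib

/-!
Square-free class sizes: inheritance, breadth one in `p`-groups, and the two fixed-point
hyperplanes of commuting coprime automorphisms.
-/

set_option autoImplicit false
set_option linter.style.haveILetI false
set_option linter.unusedSectionVars false

namespace Cfsg.Agent.Solv.SquarefreeClass

open Subgroup
open scoped commutatorElement

universe u v

variable {G : Type u} [Group G] [Finite G]

/-- An element of prime power order. -/
def IsPP (x : G) : Prop := ∃ (r : ℕ) (k : ℕ), r.Prime ∧ orderOf x = r ^ k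

/-- All classes of elements of prime power order have square-free size. -/
def PPSquarefree (G : Type u) [Group G] : Prop :=
  ∀ x : G, (∃ (r : ℕ) (k : ℕ), r.Prime ∧ orderOf x = r ^ k) →
    Squarefree (Subgroup.centralizer ({x} : Set G)).index

theorem isPP_of_mem {r : ℕ} [hr : Fact r.Prime] {P : Subgroup G} (hP : IsPGroup r P) {x : G}
    (hx : x ∈ P) : IsPP x := by
  obtain ⟨k, hk⟩ := hP ⟨x, hx⟩
  have h1 : x ^ r ^ k = 1 := congrArg Subtype.val hk
  obtain ⟨j, -, hj⟩ := (Nat.dvd_prime_pow hr.out).mp (orderOf_dvd_of_pow_eq_one h1)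
  exact ⟨r, j, hr.out, hj⟩

theorem relIndex_dvd_index (K C : Subgroup G) [K.Normal] : C.relIndex K ∣ C.index := by
  have h1 := card_sup_mul_card_inf K C
  have h2 := (C.subgroupOf K).index_mul_card
  have h3 : Nat.card (C.subgroupOf K) = Nat.card (K ⊓ C : Subgroup G) := by
    rw [← Subgroup.inf_subgroupOf_right, inf_comm,
      Nat.card_congr (Subgroup.subgroupOfEquivOfLe inf_le_left).toEquiv]
  rw [show (C.subgroupOf K).index = C.relIndex K from rfl, h3] at h2
  have h4 := C.index_mul_card
  have h5 := (K ⊔ C).index_mul_card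
  refine ⟨(K ⊔ C).index, Nat.eq_of_mul_eq_mul_right
    (Nat.mul_pos (Nat.card_pos (α := C)) (Nat.card_pos (α := (K ⊓ C : Subgroup G)))) ?_⟩
  calc C.index * (Nat.card C * Nat.card (K ⊓ C : Subgroup G))
      = (K ⊔ C).index * (Nat.card (K ⊔ C : Subgroup G) * Nat.card (K ⊓ C : Subgroup G)) := by
        rw [← mul_assoc, ← mul_assoc, h4, h5]
    _ = (K ⊔ C).index * (C.relIndex K * Nat.card (K ⊓ C : Subgroup G) * Nat.card C) := by
        rw [h1, h2]
    _ = _ := by ring

theorem dvd_prime_of_squarefree {n r d : ℕ} (hn : Squarefree n) (hr : r.Prime) (hd : d ∣ n)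
    (h : ∃ e, d = r ^ e) : d ∣ r := by
  obtain ⟨e, rfl⟩ := h
  rcases Nat.lt_or_ge e 2 with he | he
  · interval_cases e <;> simp
  · exfalso
    have h1 : r * r ∣ n := by
      refine dvd_trans ?_ hd
      rw [← sq]
      exact pow_dvd_pow r he
    exact hr.not_isUnit (hn r h1)

theorem relIndex_dvd_prime {r : ℕ} [hr : Fact r.Prime] {P : Subgroup G} [P.Normal]
    (hP : IsPGroup r P) {x : G} (hx : Squarefree (centralizer ({x} : Set G)).index) :
    (centralizer ({x} : Set G)).relIndex P ∣ r := by
  obtain ⟨n, hn⟩ := IsPGroup.iff_card.mp hP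
  obtain ⟨e, -, he⟩ := (Nat.dvd_prime_pow hr.out).mp (hn ▸ (Subgroup.relIndex_dvd_card
    (centralizer ({x} : Set G)) P))
  exact dvd_prime_of_squarefree hx hr.out (relIndex_dvd_index P _) ⟨e, he⟩

theorem index_map_centralizer_dvd {H : Type v} [Group H] (f : G →* H) (hf : Function.Surjective f)
    (x : G) : (centralizer ({f x} : Set H)).index ∣ (centralizer ({x} : Set G)).index := by
  refine dvd_trans (Subgroup.index_dvd_of_le ?_) (Subgroup.index_map_dvd _ hf)
  rintro _ ⟨g, hg, rfl⟩
  rw [mem_centralizer_singleton_iff, ← map_mul, ← map_mul, mem_centralizer_singleton_iff.mp hg]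

/-- An element of prime power order in a quotient is the image of one of prime power order. -/
theorem exists_lift {H : Type v} [Group H] (f : G →* H) (x : G) {r k : ℕ} (hr : r.Prime)
    (hk : f x ^ r ^ k = 1) : ∃ (y : G) (j : ℕ), f y = f x ∧ orderOf y = r ^ j := by
  haveI := Fact.mk hr
  obtain ⟨a, b, hb, hab⟩ := Nat.exists_eq_pow_mul_and_not_dvd (orderOf_pos x).ne' r hr.ne_one
  have hcop : (r ^ k).Coprime b := (Nat.Coprime.pow_left _ (hr.coprime_iff_not_dvd.mpr hb))
  obtain ⟨t, ht1, ht2⟩ := Nat.chineseRemainder hcop 1 0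
  have hy : (x ^ t) ^ r ^ a = 1 := by
    rw [← pow_mul, ← orderOf_dvd_iff_pow_eq_one, hab, mul_comm]
    exact mul_dvd_mul (Nat.modEq_zero_iff_dvd.mp ht2) dvd_rfl
  obtain ⟨j, -, hj⟩ := (Nat.dvd_prime_pow hr).mp (orderOf_dvd_of_pow_eq_one hy)
  refine ⟨x ^ t, j, ?_, hj⟩
  rw [map_pow]
  conv_rhs => rw [← pow_one (f x)]
  rw [pow_eq_pow_iff_modEq]
  exact ht1.of_dvd (orderOf_dvd_of_pow_eq_one hk)

theorem PPSquarefree.map {H : Type v} [Group H] (h : PPSquarefree G) (f : G →* H)
    (hf : Function.Surjective f) : PPSquarefree H := by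
  rintro y ⟨r, k, hr, hk⟩
  obtain ⟨x, rfl⟩ := hf y
  obtain ⟨z, j, hz, hzp⟩ := exists_lift f x hr (hk ▸ pow_orderOf_eq_one (f x))
  rw [← hz]
  exact Squarefree.squarefree_of_dvd (index_map_centralizer_dvd f hf z) (h z ⟨r, j, hr, hzp⟩)

section PGroups

variable {P : Type v} [Group P] [Finite P] {r : ℕ} [hr : Fact r.Prime]

theorem normal_of_index_prime (hP : IsPGroup r P) {H : Subgroup P} (hH : H.index = r) :
    H.Normal := by
  refine Subgroup.normal_of_index_eq_minFac_card ?_
  obtain ⟨n, hn⟩ := IsPGroup.iff_card.mp hP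
  have hn0 : n ≠ 0 := by
    rintro rfl
    have := H.index_dvd_card
    rw [hn, hH, pow_zero, Nat.dvd_one] at this
    exact hr.out.ne_one this
  rw [hH, hn, Nat.pow_minFac hn0, hr.out.minFac_eq]

/-- A `p`-group with all classes of size at most `p` has derived group central of order at most `p`. -/
theorem breadth_one (hP : IsPGroup r P)
    (h : ∀ x : P, (centralizer ({x} : Set P)).index ∣ r) :
    commutator P ≤ center P ∧ Nat.card (commutator P) ∣ r := by
  classical
  have hC : ∀ x : P, commutator P ≤ centralizer ({x} : Set P) := by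
    intro x
    rcases (Nat.dvd_prime hr.out).mp (h x) with h1 | h1
    · rw [Subgroup.index_eq_one.mp h1]; exact le_top
    · haveI := normal_of_index_prime hP h1
      haveI : IsCyclic (P ⧸ centralizer ({x} : Set P)) := isCyclic_of_prime_card h1
      rw [_root_.commutator_def, Subgroup.commutator_le]
      intro a _ b _
      rw [← QuotientGroup.eq_one_iff]
      refine (map_commutatorElement (QuotientGroup.mk' (centralizer ({x} : Set P))) a b).trans ?_
      exact commutatorElement_eq_one_iff_mul_comm.mpr (IsMulCommutative.is_comm.comm _ _)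
  have hZ : commutator P ≤ center P := fun g hg =>
    mem_center_iff.mpr fun x => (mem_centralizer_singleton_iff.mp (hC x hg)).symm
  refine ⟨hZ, ?_⟩
  have hcz : ∀ a b : P, ⁅a, b⁆ ∈ center P := fun a b =>
    hZ (Subgroup.commutator_mem_commutator (mem_top a) (mem_top b))
  -- `b ↦ ⁅x, b⁆` is a homomorphism
  let φ : ∀ x : P, P →* P := fun x =>
    { toFun := fun b => ⁅x, b⁆
      map_one' := commutatorElement_one_right x
      map_mul' := fun a b => by
        have h1 : ⁅x, a * b⁆ = ⁅x, a⁆ * (a * ⁅x, b⁆ * a⁻¹) := by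
          simp only [commutatorElement_def]; group
        rw [h1, mem_center_iff.mp (hcz x b) a, mul_inv_cancel_right] }
  have hker : ∀ x, (φ x).ker = centralizer ({x} : Set P) := fun x => by
    ext b
    rw [MonoidHom.mem_ker, mem_centralizer_singleton_iff]
    show ⁅x, b⁆ = 1 ↔ _
    rw [commutatorElement_eq_one_iff_mul_comm]
    exact eq_comm
  have hR : ∀ x, Nat.card (φ x).range ∣ r := fun x => by
    rw [← Subgroup.index_ker, hker]
    exact h x
  have hRz : ∀ x, x ∉ center P → Nat.card (φ x).range = r := by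
    intro x hx
    refine ((Nat.dvd_prime hr.out).mp (hR x)).resolve_left fun h1 => hx ?_
    rw [← Subgroup.index_ker, hker, Subgroup.index_eq_one] at h1
    exact mem_center_iff.mpr fun g => mem_centralizer_singleton_iff.mp (h1 ▸ mem_top g)
  by_cases hab : ∀ x : P, x ∈ center P
  · have : commutator P = ⊥ := by
      rw [_root_.commutator_def, eq_bot_iff, Subgroup.commutator_le]
      intro a _ b _
      rw [mem_bot]
      exact commutatorElement_eq_one_iff_mul_comm.mpr (mem_center_iff.mp (hab b) a)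
    rw [this, Subgroup.card_bot]
    exact one_dvd r
  push Not at hab
  obtain ⟨x₀, hx₀⟩ := hab
  have hEq : ∀ x z : P, ⁅x, z⁆ ≠ 1 → (φ x).range = (φ z).range := by
    intro x z hxz
    have hx : x ∉ center P := fun hx => hxz
      (commutatorElement_eq_one_iff_mul_comm.mpr (mem_center_iff.mp hx z).symm)
    have hz : z ∉ center P := fun hz => hxz
      (commutatorElement_eq_one_iff_mul_comm.mpr (mem_center_iff.mp hz x))
    have hm1 : ⁅x, z⁆ ∈ (φ x).range := ⟨z, rfl⟩
    have hm2 : ⁅x, z⁆ ∈ (φ z).range := by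
      rw [← commutatorElement_inv z x]
      exact inv_mem ⟨x, rfl⟩
    have key : ∀ H : Subgroup P, Nat.card H = r → ⁅x, z⁆ ∈ H → H = zpowers ⁅x, z⁆ := by
      intro H hH hm
      refine (Subgroup.eq_of_le_of_card_ge (zpowers_le.mpr hm) ?_).symm
      rw [hH, Nat.card_zpowers]
      have h1 : orderOf (⁅x, z⁆) ∣ r := hH ▸ Subgroup.orderOf_dvd_natCard H hm
      rcases (Nat.dvd_prime hr.out).mp h1 with h2 | h2
      · exact absurd (orderOf_eq_one_iff.mp h2) hxz
      · exact h2.ge
    rw [key _ (hRz x hx) hm1, key _ (hRz z hz) hm2]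
  have hall : ∀ a b : P, ⁅a, b⁆ ∈ (φ x₀).range := by
    intro a b
    by_cases h1 : ⁅a, b⁆ = 1
    · rw [h1]; exact one_mem _
    -- choose `z` not commuting with `a` and `x₀`
    obtain ⟨z, hz1, hz2⟩ : ∃ z : P, ⁅a, z⁆ ≠ 1 ∧ ⁅x₀, z⁆ ≠ 1 := by
      obtain ⟨c, hc⟩ : ∃ c : P, ⁅x₀, c⁆ ≠ 1 := by
        by_contra h2
        push Not at h2
        exact hx₀ (mem_center_iff.mpr fun g =>
          (commutatorElement_eq_one_iff_mul_comm.mp (h2 g)).symm)
      by_cases h3 : ⁅a, c⁆ = 1
      swap
      · exact ⟨c, h3, hc⟩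
      by_cases h4 : ⁅x₀, b⁆ = 1
      swap
      · exact ⟨b, h1, h4⟩
      refine ⟨b * c, ?_, ?_⟩
      · show φ a (b * c) ≠ 1
        rw [map_mul, show φ a c = 1 from h3, mul_one]
        exact h1
      · show φ x₀ (b * c) ≠ 1
        rw [map_mul, show φ x₀ b = 1 from h4, one_mul]
        exact hc
    rw [hEq x₀ z hz2, ← hEq a z hz1]
    exact ⟨b, rfl⟩
  exact (Subgroup.card_dvd_of_le (show commutator P ≤ (φ x₀).range from by
    rw [_root_.commutator_def, Subgroup.commutator_le]; exact fun a _ b _ => hall a b)).trans (hR x₀)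

/-- The fixed points of an automorphism. -/
def fixedBy (φ : MulAut P) : Subgroup P where
  carrier := {x | φ x = x}
  one_mem' := map_one φ
  mul_mem' := fun {a b} ha hb => (map_mul φ a b).trans (by rw [ha, hb])
  inv_mem' := fun {a} ha => (map_inv φ a).trans (by rw [ha])

/-- A coprime automorphism fixing the coset `x * i` of a fixed element `i` fixes `x`. -/
theorem eq_one_of_coprime {φ : MulAut P} {m : ℕ} (hm : φ ^ m = 1) (hco : (Nat.card P).Coprime m)
    {x i : P} (hi : φ i = i) (hx : φ x = x * i) : i = 1 := by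
  have h1 : ∀ j : ℕ, (φ ^ j) x = x * i ^ j := by
    intro j
    induction j with
    | zero => simp
    | succ j ih => rw [pow_succ', MulAut.mul_apply, ih, map_mul, hx, map_pow, hi, pow_succ', mul_assoc]
  have h2 := h1 m
  rw [hm, MulAut.one_apply, left_eq_mul] at h2
  exact orderOf_eq_one_iff.mp
    (Nat.eq_one_of_dvd_coprimes hco (orderOf_dvd_natCard i) (orderOf_dvd_of_pow_eq_one h2))

/-- Two commuting coprime automorphisms whose fixed points, and those of their product, have index
at most `r` have the same fixed points, if both are non-trivial. -/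
theorem fixedBy_eq (hP : IsPGroup r P) {α β : MulAut P} {m : ℕ} (hαβ : Commute α β)
    (hβm : β ^ m = 1) (hco : (Nat.card P).Coprime m) (h1 : (fixedBy α).index = r)
    (h2 : (fixedBy β).index = r) (h3 : (fixedBy (α * β)).index ∣ r) : fixedBy α = fixedBy β := by
  by_contra hne
  haveI := normal_of_index_prime hP h1
  set A := fixedBy α
  set B := fixedBy β
  have hnle : ¬ B ≤ A := fun hle =>
    hne (Subgroup.eq_of_le_of_card_ge hle (by
      have e1 := A.index_mul_card
      have e2 := B.index_mul_card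
      rw [h1] at e1; rw [h2] at e2
      exact (Nat.eq_of_mul_eq_mul_left hr.out.pos (e1.trans e2.symm)).le)).symm
  have hsup : A ⊔ B = ⊤ := by
    rw [← Subgroup.index_eq_one]
    refine ((Nat.dvd_prime hr.out).mp (h1 ▸ Subgroup.index_dvd_of_le le_sup_left)).resolve_right ?_
    intro h4
    refine hnle (le_sup_right.trans (Subgroup.eq_of_le_of_card_ge (le_sup_left : A ≤ A ⊔ B) ?_).ge)
    have e1 := A.index_mul_card
    have e2 := (A ⊔ B).index_mul_card
    rw [h1] at e1; rw [h4] at e2
    exact (Nat.eq_of_mul_eq_mul_left hr.out.pos (e2.trans e1.symm)).le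
  have hD : fixedBy (α * β) ≤ A ⊓ B := by
    intro w hw
    obtain ⟨u, hu, v, hv, rfl⟩ : ∃ u ∈ A, ∃ v ∈ B, u * v = w := by
      have : w ∈ ((A ⊔ B : Subgroup P) : Set P) := by rw [hsup]; exact mem_top w
      rw [Subgroup.normal_mul] at this
      exact this
    have hu' : α u = u := hu
    have hv' : β v = v := hv
    have hw' : α (β (u * v)) = u * v := hw
    have hbu : α (β u) = β u := by
      have := DFunLike.congr_fun hαβ.eq u
      simp only [MulAut.mul_apply] at this
      rw [this, hu']
    rw [map_mul, map_mul, hbu, hv'] at hw'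
    have hi : u⁻¹ * β u = v * (α v)⁻¹ := by
      rw [inv_mul_eq_iff_eq_mul, ← mul_assoc, eq_mul_inv_iff_mul_eq]
      exact hw'
    have hβi : β (u⁻¹ * β u) = u⁻¹ * β u := by
      rw [hi, map_mul, map_inv, hv']
      have h5 : β (α v) = α v := by
        have := DFunLike.congr_fun hαβ.eq v
        simp only [MulAut.mul_apply] at this
        rw [← this, hv']
      rw [h5]
    have hone := eq_one_of_coprime hβm hco hβi (x := u) (by rw [mul_inv_cancel_left])
    have huB : u ∈ B := (inv_mul_eq_one.mp hone).symm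
    have hvA : v ∈ A := by
      rw [hone] at hi
      exact (mul_inv_eq_one.mp hi.symm).symm
    exact ⟨mul_mem hu hvA, mul_mem huB hv⟩
  have h5 : (A ⊓ B).index ∣ r := (Subgroup.index_dvd_of_le hD).trans h3
  have h6 : (A ⊓ B).relIndex B * B.index = (A ⊓ B).index := Subgroup.relIndex_mul_index inf_le_right
  rw [← h6, h2] at h5
  have h7 : (A ⊓ B).relIndex B = 1 :=
    Nat.dvd_one.mp ((Nat.mul_dvd_mul_iff_right hr.out.pos).mp (by rwa [one_mul]))
  exact hnle ((Subgroup.relIndex_eq_one.mp h7).trans inf_le_left)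

end PGroups

end Cfsg.Agent.Solv.SquarefreeClass
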