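import Cfsg.Agent.Lib.Solv.SquarefreeClass.Basic
import Cfsg.Agent.Lib.Solv.Cores
import Cfsg.Agent.Lib.Perm.Huppert

/-!
Soluble groups in which all elements of prime power order have square-free class size
(Cossey–Wang): supersolubility and the structure of the Fitting subgroup.
-/

set_option autoImplicit false
set_option linter.style.haveILetI false
set_option linter.unusedSectionVars false

namespace Cfsg.Agent.Solv.SquarefreeClass

open Subgroup
open scoped commutatorElement

universe u

variable {G : Type u} [Group G] [Finite G]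

theorem fixedBy_conjNormal (N : Subgroup G) [N.Normal] (a : G) :
    fixedBy (MulAut.conjNormal a : MulAut N) = (centralizer ({a} : Set G)).subgroupOf N := by
  ext x
  show MulAut.conjNormal a x = x ↔ _
  rw [mem_subgroupOf, mem_centralizer_singleton_iff, Subtype.ext_iff, MulAut.conjNormal_apply,
    mul_inv_eq_iff_eq_mul]
  exact eq_comm

/-- A core-free maximal subgroup has prime index. -/
theorem coreFree_index_prime (hsolv : Group.IsSolvable G) (h : PPSquarefree G) (M : Subgroup G)
    (hM : IsCoatom M) (hcore : M.normalCore = ⊥) : M.index.Prime := by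
  classical
  haveI := hsolv
  haveI : Nontrivial G := by
    by_contra h0
    rw [not_nontrivial_iff_subsingleton] at h0
    exact hM.1 (Subsingleton.elim _ _)
  obtain ⟨N, hN⟩ := Perm.exists_isMinNormal (G := G)
  haveI := hN.1
  have hc := hN.isMulCommutative inferInstance
  obtain ⟨p, hp, hpow, hpg, k, hk, hcard⟩ := hN.exists_prime hc
  haveI := Fact.mk hp
  have hNM : ¬ N ≤ M := fun hle =>
    hN.2.1 (le_bot_iff.mp (hcore ▸ Subgroup.normal_le_normalCore.mpr hle))
  obtain ⟨hinf, hsup, -, hidx⟩ := hN.complement_of_coatom hc hM hNM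
  have hnormal : ∀ K : Subgroup G, (∀ n ∈ N, ∀ x ∈ K, n * x * n⁻¹ ∈ K) →
      (∀ m ∈ M, ∀ x ∈ K, m * x * m⁻¹ ∈ K) → K.Normal := by
    intro K h1 h2
    rw [← Subgroup.normalizer_eq_top_iff, eq_top_iff, ← hsup]
    refine sup_le (fun n hn => ?_) (fun m hm => ?_)
    · exact Subgroup.mem_normalizer_fintype (h1 n hn)
    · exact Subgroup.mem_normalizer_fintype (h2 m hm)
  have hCN : centralizer (N : Set G) ⊓ M = ⊥ := by
    haveI := hnormal (centralizer (N : Set G) ⊓ M) (fun n hn x hx => by
        rw [mem_centralizer_iff.mp hx.1 n hn, mul_inv_cancel_right]; exact hx)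
      (fun m hm x hx => ⟨(inferInstance : (centralizer (N : Set G)).Normal).conj_mem x hx.1 m,
        M.mul_mem (M.mul_mem hm hx.2) (M.inv_mem hm)⟩)
    exact le_bot_iff.mp (hcore ▸ Subgroup.normal_le_normalCore.mpr inf_le_right)
  rcases eq_or_ne M ⊥ with rfl | hM0
  · obtain ⟨r, hr, hrd⟩ := Nat.exists_prime_and_dvd (Finite.one_lt_card (α := G)).ne'
    haveI := Fact.mk hr
    obtain ⟨x, hx⟩ := exists_prime_orderOf_dvd_card' r hrd
    have hz : zpowers x = ⊤ := hM.2 _ (bot_lt_iff_ne_bot.mpr fun h0 => by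
      rw [zpowers_eq_bot.mp h0, orderOf_one] at hx
      exact hr.one_lt.ne hx)
    rw [Subgroup.index_bot, ← Subgroup.card_top, ← hz, Nat.card_zpowers, hx]
    exact hr
  haveI : Nontrivial M := (Subgroup.nontrivial_iff_ne_bot M).mpr hM0
  obtain ⟨A, hA⟩ := Perm.exists_isMinNormal (G := M)
  haveI := hA.1
  have hAc := hA.isMulCommutative inferInstance
  obtain ⟨q, hq, hqpow, hqg, l, hl, hAcard⟩ := hA.exists_prime hAc
  haveI := Fact.mk hq
  let β : A →* MulAut N := MulAut.conjNormal.comp (M.subtype.comp A.subtype)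
  have hβinj : ∀ a : A, β a = 1 → a = 1 := by
    intro a ha
    have h1 : (a : M).1 ∈ centralizer (N : Set G) ⊓ M := by
      refine ⟨mem_centralizer_iff.mpr fun n hn => ?_, (a : M).2⟩
      have h2 := congrArg Subtype.val (DFunLike.congr_fun ha (⟨n, hn⟩ : N))
      simp only [β, MonoidHom.comp_apply, MulAut.conjNormal_apply, MulAut.one_apply,
        Subgroup.coe_subtype] at h2
      exact (mul_inv_eq_iff_eq_mul.mp h2).symm
    rw [hCN, mem_bot] at h1
    exact Subtype.ext (Subtype.ext h1)
  -- the common fixed points of `A` are trivial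
  have hfix : ∀ n : N, (∀ a : A, β a n = n) → n = 1 := by
    intro n hn
    let K : Subgroup G :=
      (⨅ a : A, fixedBy (β a)).map N.subtype
    have hKm : ∀ x : G, x ∈ K ↔ ∃ hx : x ∈ N, ∀ a : A, β a ⟨x, hx⟩ = ⟨x, hx⟩ := by
      intro x
      constructor
      · rintro ⟨y, hy, rfl⟩
        exact ⟨y.2, fun a => (Subgroup.mem_iInf.mp hy a)⟩
      · rintro ⟨hx, h1⟩
        exact ⟨⟨x, hx⟩, Subgroup.mem_iInf.mpr h1, rfl⟩
    haveI hKn : K.Normal := by
      refine hnormal K (fun m hm x hx => ?_) (fun m hm x hx => ?_)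
      · obtain ⟨hxN, -⟩ := (hKm x).mp hx
        have : m * x = x * m := by
          simpa [Subtype.ext_iff] using hc.is_comm.comm (⟨m, hm⟩ : N) ⟨x, hxN⟩
        rwa [this, mul_inv_cancel_right]
      · obtain ⟨hxN, hx1⟩ := (hKm x).mp hx
        refine (hKm _).mpr ⟨hN.1.conj_mem x hxN m, fun a => Subtype.ext ?_⟩
        have h2 := congrArg Subtype.val (hx1 ⟨(⟨m, hm⟩ : M)⁻¹ * a.1 * ⟨m, hm⟩, by
          have := hA.1.conj_mem a.1 a.2 (⟨m, hm⟩ : M)⁻¹
          rwa [inv_inv] at this⟩)
        simp only [β, MonoidHom.comp_apply, MulAut.conjNormal_apply, Subgroup.coe_subtype,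
          Subgroup.coe_mul, Subgroup.coe_inv] at h2 ⊢
        conv_rhs => rw [← h2]
        group
    rcases hN.2.2 K hKn (fun x hx => ((hKm x).mp hx).1) with h1 | h1
    · have : (n : G) ∈ K := (hKm n).mpr ⟨n.2, hn⟩
      rw [h1, mem_bot] at this
      exact Subtype.ext this
    · obtain ⟨a, ha⟩ := Subgroup.ne_bot_iff_exists_ne_one.mp hA.2.1
      refine absurd (hβinj a (DFunLike.ext _ _ fun x => ?_)) ha
      obtain ⟨_, h2⟩ := (hKm x).mp (h1.symm ▸ x.2)
      exact h2 _
  have hqp : q ≠ p := by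
    intro hqp
    letI : MulAction A N := MulAction.compHom N β
    have h1 : IsPGroup p A := hqp ▸ hqg
    have h2 := h1.card_modEq_card_fixedPoints N
    have h3 : MulAction.fixedPoints A N = {1} := by
      refine Set.eq_singleton_iff_unique_mem.mpr ⟨fun a => map_one (β a), fun n hn => hfix n hn⟩
    rw [h3, hcard, Nat.card_eq_fintype_card (α := ({1} : Set N)), Set.card_singleton] at h2
    have h4 : p ∣ p ^ k := dvd_pow_self p hk.ne'
    rw [Nat.ModEq, Nat.mod_eq_zero_of_dvd h4, Nat.one_mod_eq_one.mpr hp.ne_one] at h2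
    exact zero_ne_one h2
  have hco : (Nat.card N).Coprime q := by
    rw [hcard]; exact Nat.Coprime.pow_left _ ((Nat.coprime_primes hp hq).mpr hqp.symm)
  have hβq : ∀ a : A, β a ^ q = 1 := fun a => by
    rw [← map_pow, show a ^ q = 1 from Subtype.ext (hqpow a.1 a.2), map_one]
  have hdvd : ∀ a : A, (fixedBy (β a)).index ∣ p := by
    intro a
    show (fixedBy (MulAut.conjNormal (a : M).1 : MulAut N)).index ∣ p
    rw [fixedBy_conjNormal]
    refine relIndex_dvd_prime hpg (h _ ⟨q, ?_⟩)
    obtain ⟨j, -, hj⟩ := (Nat.dvd_prime_pow hq).mp (orderOf_dvd_of_pow_eq_one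
      (show ((a : M).1) ^ q ^ 1 = 1 by
        rw [pow_one, ← Subgroup.coe_pow, hqpow a.1 a.2]; rfl))
    exact ⟨j, hq, hj⟩
  have hidxp : ∀ a : A, a ≠ 1 → (fixedBy (β a)).index = p := by
    intro a ha
    refine ((Nat.dvd_prime hp).mp (hdvd a)).resolve_left fun h1 => ha (hβinj a ?_)
    rw [Subgroup.index_eq_one] at h1
    exact DFunLike.ext _ _ fun x => (h1.symm ▸ mem_top x : x ∈ fixedBy (β a))
  obtain ⟨a₀, ha₀'⟩ := Subgroup.ne_bot_iff_exists_ne_one.mp hA.2.1
  have hbot : fixedBy (β a₀) = ⊥ := by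
    refine (Subgroup.eq_bot_iff_forall _).mpr fun n hn => hfix n fun a => ?_
    by_cases ha : a = 1
    · rw [ha, map_one]; rfl
    · have h1 : fixedBy (β a₀) = fixedBy (β a) := by
        have hcomm : Commute a₀ a := hAc.is_comm.comm _ _
        refine fixedBy_eq hpg (hcomm.map β) (hβq a) hco (hidxp _ ha₀') (hidxp _ ha) ?_
        rw [← map_mul]
        exact hdvd _
      exact (h1 ▸ hn : n ∈ fixedBy (β a))
  have h1 := hidxp _ ha₀'
  rw [hbot, Subgroup.index_bot] at h1
  rw [hidx, h1]
  exact hp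

/-- Cossey–Wang: such soluble groups are supersoluble. -/
theorem isSupersolvable (hsolv : Group.IsSolvable G) (h : PPSquarefree G) :
    Cfsg.IsSupersolvable G := by
  refine Perm.isSupersolvable_of_coatom_index_prime fun M hM => ?_
  let π := QuotientGroup.mk' M.normalCore
  have hπ : Function.Surjective π := QuotientGroup.mk'_surjective _
  have hker : π.ker ≤ M := by rw [QuotientGroup.ker_mk']; exact M.normalCore_le
  have hcm : (M.map π).comap π = M := by rw [Subgroup.comap_map_eq, sup_eq_left.mpr hker]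
  haveI : Group.IsSolvable (G ⧸ M.normalCore) := by
    haveI := hsolv
    exact Group.isSolvable_of_surjective hπ
  rw [← hcm, Subgroup.index_comap_of_surjective _ hπ]
  refine coreFree_index_prime inferInstance (h.map π hπ) _ ⟨fun h0 => hM.1 ?_, fun K hK => ?_⟩ ?_
  · rw [← hcm, h0, Subgroup.comap_top]
  · have h1 : M < K.comap π := by
      exact hcm.symm.trans_lt ((Subgroup.comap_lt_comap_of_surjective hπ).mpr hK)
    rw [← Subgroup.map_comap_eq_self_of_surjective hπ K, hM.2 _ h1,
      Subgroup.map_top_of_surjective _ hπ]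
  · refine (Subgroup.eq_bot_iff_forall _).mpr fun y hy => ?_
    obtain ⟨x, rfl⟩ := hπ y
    have h1 : (M.map π).normalCore.comap π ≤ M.normalCore := by
      haveI : ((M.map π).normalCore.comap π).Normal := Subgroup.Normal.comap inferInstance π
      refine Subgroup.normal_le_normalCore.mpr ?_
      conv_rhs => rw [← hcm]
      exact Subgroup.comap_mono (M.map π).normalCore_le
    exact (QuotientGroup.eq_one_iff x).mpr (h1 hy)

theorem commutator_le_fitting (hss : Cfsg.IsSupersolvable G) :
    commutator G ≤ Cfsg.fittingSubgroup G := by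
  exact normal_le_fitting (Perm.isNilpotent_commutator hss)

/-- The `q`-th power of a `q`-element centralizes the `r`-cores for `r ≠ q`. -/
theorem pow_commute_pCore (hss : Cfsg.IsSupersolvable G) (h : PPSquarefree G) {x : G} {q k : ℕ}
    (hq : q.Prime) (hx : orderOf x = q ^ k) {r : ℕ} [hr : Fact r.Prime] (hrq : r ≠ q) :
    ∀ y ∈ Cfsg.pCore r G, Commute (x ^ q) y := by
  classical
  haveI := pCore_normal (G := G) r
  have hP := pCore_isPGroup (G := G) r
  suffices ∀ {K : Subgroup G}, Perm.SSUpTo K → ∀ y ∈ K, y ∈ Cfsg.pCore r G → Commute (x ^ q) y from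
    fun y hy => this (Perm.isSupersolvable_iff.mp hss) y (mem_top y) hy
  intro K hK
  induction hK with
  | bot => intro y hy _; rw [mem_bot] at hy; rw [hy]; exact Commute.one_right _
  | step H g hH hn ih =>
    intro y hy hyP
    haveI := hH.normal
    let π := QuotientGroup.mk' H
    have hzeq : (H ⊔ zpowers g).map π = zpowers (π g) := by
      rw [Subgroup.map_sup, QuotientGroup.map_mk'_self, bot_sup_eq, MonoidHom.map_zpowers]
    haveI hgn : (zpowers (π g)).Normal :=
      hzeq ▸ hn.map π (QuotientGroup.mk'_surjective H)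
    obtain ⟨j, hj⟩ : π y ∈ zpowers (π g) := hzeq ▸ mem_map_of_mem π hy
    have hC : (centralizer ({π y} : Set (G ⧸ H))).Normal := by
      refine ⟨fun c hc t => ?_⟩
      obtain ⟨i, hi⟩ := hgn.conj_mem _ (mem_zpowers (π g)) t⁻¹
      rw [inv_inv] at hi
      have h1 : t⁻¹ * π y * t = π y ^ i := by
        have h2 : t⁻¹ * π g ^ j * t = (t⁻¹ * π g * t) ^ j := by
          rw [show t⁻¹ * π g * t = t⁻¹ * π g * t⁻¹⁻¹ by rw [inv_inv], conj_zpow, inv_inv]
        rw [← hj, h2, ← hi, ← zpow_mul, ← zpow_mul, mul_comm]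
      rw [mem_centralizer_singleton_iff] at hc ⊢
      have h2 : Commute c (π y ^ i) := Commute.zpow_right hc i
      rw [← h1] at h2
      calc t * c * t⁻¹ * π y = t * (c * (t⁻¹ * π y * t)) * t⁻¹ := by group
        _ = t * (t⁻¹ * π y * t * c) * t⁻¹ := by rw [h2.eq]
        _ = π y * (t * c * t⁻¹) := by group
    haveI := hC
    -- the image of `x` modulo the centralizer has order dividing `q`
    have hsq : Squarefree (centralizer ({π y} : Set (G ⧸ H))).index :=
      Squarefree.squarefree_of_dvd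
        (index_map_centralizer_dvd π (QuotientGroup.mk'_surjective H) y)
        (h y (isPP_of_mem hP hyP))
    let ρ := QuotientGroup.mk' (centralizer ({π y} : Set (G ⧸ H)))
    have hd : orderOf (ρ (π x)) ∣ q := by
      obtain ⟨e, -, he⟩ := (Nat.dvd_prime_pow hq).mp
        (hx ▸ (orderOf_map_dvd (ρ.comp π) x : orderOf (ρ (π x)) ∣ orderOf x))
      refine dvd_prime_of_squarefree hsq hq ?_ ⟨e, he⟩
      exact orderOf_dvd_natCard (ρ (π x))
    have hz : π (x ^ q) ∈ centralizer ({π y} : Set (G ⧸ H)) := by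
      rw [← QuotientGroup.eq_one_iff, map_pow]
      exact orderOf_dvd_iff_pow_eq_one.mp hd
    set z := x ^ q with hz'
    have hh : y⁻¹ * (z * y * z⁻¹) ∈ H := by
      rw [← QuotientGroup.eq_one_iff]
      show π (y⁻¹ * (z * y * z⁻¹)) = 1
      rw [map_mul, map_mul, map_mul, map_inv, map_inv, mem_centralizer_singleton_iff.mp hz,
        mul_inv_cancel_right, inv_mul_cancel]
    have hhP : y⁻¹ * (z * y * z⁻¹) ∈ Cfsg.pCore r G :=
      mul_mem (inv_mem hyP) ((inferInstance : (Cfsg.pCore r G).Normal).conj_mem y hyP z)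
    let φ : MulAut (Cfsg.pCore r G) := MulAut.conjNormal z
    have hφ : φ ^ orderOf x = 1 := by
      rw [← map_pow, hz', ← pow_mul, mul_comm, pow_mul, pow_orderOf_eq_one, one_pow, map_one]
    have hco : (Nat.card (Cfsg.pCore r G)).Coprime (orderOf x) := by
      obtain ⟨n, hn'⟩ := IsPGroup.iff_card.mp hP
      rw [hn', hx]
      exact Nat.Coprime.pow _ _ ((Nat.coprime_primes hr.out hq).mpr hrq)
    have hone := eq_one_of_coprime hφ hco (x := (⟨y, hyP⟩ : Cfsg.pCore r G))
      (i := ⟨_, hhP⟩) (Subtype.ext (by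
        show z * (y⁻¹ * (z * y * z⁻¹)) * z⁻¹ = _
        rw [(ih _ hh hhP).eq, mul_inv_cancel_right])) (Subtype.ext (by
        show z * y * z⁻¹ = y * (y⁻¹ * (z * y * z⁻¹))
        rw [mul_inv_cancel_left]))
    exact (mul_inv_eq_iff_eq_mul.mp (inv_mul_eq_one.mp (congrArg Subtype.val hone)).symm)

/-- The `q`-th power of a `q`-element lies in the Fitting subgroup. -/
theorem pow_mem_fitting (hss : Cfsg.IsSupersolvable G) (h : PPSquarefree G) {x : G} {q k : ℕ}
    (hq : q.Prime) (hx : orderOf x = q ^ k) : x ^ q ∈ Cfsg.fittingSubgroup G := by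
  classical
  haveI := Fact.mk hq
  haveI := pCore_normal (G := G) q
  let π := QuotientGroup.mk' (Cfsg.pCore q G)
  let Y : Subgroup G :=
    ⨅ r : {r : Nat.Primes // (r : ℕ) ≠ q}, centralizer (Cfsg.pCore (r.1 : ℕ) G : Set G)
  haveI : Y.Normal := Subgroup.normal_iInf_normal fun r => by
    haveI := pCore_normal (G := G) (r.1 : ℕ)
    infer_instance
  have hzY : x ^ q ∈ Y := Subgroup.mem_iInf.mpr fun r => mem_centralizer_iff.mpr fun y hy =>
    haveI := Fact.mk r.1.2
    ((pow_commute_pCore hss h hq hx r.2) y hy).eq.symm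
  have hF : (Cfsg.fittingSubgroup G).map π ≤ centralizer ((Y.map π : Subgroup _) : Set (G ⧸ Cfsg.pCore q G)) := by
    rw [fitting_eq_iSup_pCore, Subgroup.map_iSup, iSup_le_iff]
    intro r
    by_cases hrq : (r : ℕ) = q
    · rw [hrq, QuotientGroup.map_mk'_self]; exact bot_le
    · rintro _ ⟨f, hf, rfl⟩
      refine mem_centralizer_iff.mpr ?_
      rintro _ ⟨c, hc, rfl⟩
      rw [← map_mul, ← map_mul, mem_centralizer_iff.mp (Subgroup.mem_iInf.mp hc ⟨r, hrq⟩) f hf]
  set Yb := Y.map π with hYb
  haveI : Yb.Normal := Subgroup.Normal.map inferInstance π (QuotientGroup.mk'_surjective _)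
  have hcomm : commutator Yb ≤ center Yb := by
    rw [_root_.commutator_def, Subgroup.commutator_le]
    rintro a - b -
    obtain ⟨a', ha', hae⟩ := a.2
    obtain ⟨b', hb', hbe⟩ := b.2
    have h1 : (⁅a, b⁆ : Yb).1 = π ⁅a', b'⁆ := by
      rw [map_commutatorElement, hae, hbe]; rfl
    have h2 : (⁅a, b⁆ : Yb).1 ∈ centralizer (Yb : Set (G ⧸ Cfsg.pCore q G)) := by
      rw [h1]
      exact hF (mem_map_of_mem π (commutator_le_fitting hss
        (Subgroup.commutator_mem_commutator (mem_top a') (mem_top b'))))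
    exact mem_center_iff.mpr fun g => Subtype.ext (mem_centralizer_iff.mp h2 g.1 g.2)
  haveI : Group.IsNilpotent Yb :=
    Subgroup.isNilpotent_of_ker_le_center (Abelianization.of : Yb →* Abelianization Yb)
      (by rw [Abelianization.ker_of]; exact hcomm)
  let zb : Yb := ⟨π (x ^ q), mem_map_of_mem π hzY⟩
  have hzp : IsPGroup q (zpowers zb) := by
    obtain ⟨j, -, hj⟩ := (Nat.dvd_prime_pow hq).mp (orderOf_dvd_of_pow_eq_one
      (show zb ^ q ^ k = 1 from Subtype.ext (by
        show π (x ^ q) ^ q ^ k = 1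
        rw [← map_pow, ← pow_mul, mul_comm, pow_mul, ← hx, pow_orderOf_eq_one, one_pow, map_one])))
    exact IsPGroup.of_card (n := j) (by rw [Nat.card_zpowers, hj])
  obtain ⟨S, hS⟩ := hzp.exists_le_sylow
  haveI : (S : Subgroup Yb).Characteristic :=
    S.characteristic_of_normal (Subgroup.normalizer_eq_top_iff.mp (by
      by_contra h0
      exact (Group.normalizerCondition_of_isNilpotent (G := Yb) _
        (lt_top_iff_ne_top.mpr h0)).ne (Sylow.normalizer_normalizer S).symm))
  haveI : ((S : Subgroup Yb).map Yb.subtype).Normal := inferInstance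
  let W := ((S : Subgroup Yb).map Yb.subtype).comap π
  haveI : W.Normal := Subgroup.Normal.comap inferInstance π
  have hW : IsPGroup q W := (S.isPGroup'.map _).comap_of_ker_isPGroup π (by
    rw [QuotientGroup.ker_mk']; exact pCore_isPGroup q)
  exact pCore_le_fitting q (normal_le_pCore hW ⟨zb, hS (mem_zpowers zb), rfl⟩)

/-- `G / F(G)` is abelian of square-free exponent. -/
theorem quotient_fitting (hss : Cfsg.IsSupersolvable G) (h : PPSquarefree G)
    [(Cfsg.fittingSubgroup G).Normal] :
    IsMulCommutative (G ⧸ Cfsg.fittingSubgroup G) ∧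
      Squarefree (Monoid.exponent (G ⧸ Cfsg.fittingSubgroup G)) := by
  have hcomm : IsMulCommutative (G ⧸ Cfsg.fittingSubgroup G) := by
    refine ⟨⟨fun a b => ?_⟩⟩
    obtain ⟨a, rfl⟩ := QuotientGroup.mk'_surjective (Cfsg.fittingSubgroup G) a
    obtain ⟨b, rfl⟩ := QuotientGroup.mk'_surjective (Cfsg.fittingSubgroup G) b
    rw [← commutatorElement_eq_one_iff_mul_comm, ← map_commutatorElement]
    exact (QuotientGroup.eq_one_iff _).mpr
      (commutator_le_fitting hss (Subgroup.commutator_mem_commutator (mem_top a) (mem_top b)))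
  refine ⟨hcomm, ?_⟩
  rw [Nat.squarefree_iff_prime_squarefree]
  intro q hq hdvd
  haveI := hcomm
  open scoped IsMulCommutative in
  obtain ⟨g, hg⟩ := Monoid.exists_orderOf_eq_exponent
    (G := G ⧸ Cfsg.fittingSubgroup G) Monoid.ExponentExists.of_finite
  have hqe : q * q ∣ orderOf g := hg ▸ hdvd
  have he : orderOf (g ^ (orderOf g / (q * q))) = q * q :=
    orderOf_pow_orderOf_div (orderOf_pos g).ne' hqe
  obtain ⟨x, hx⟩ := QuotientGroup.mk'_surjective (Cfsg.fittingSubgroup G)
    (g ^ (orderOf g / (q * q)))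
  obtain ⟨y, j, hy, hyo⟩ := exists_lift (QuotientGroup.mk' (Cfsg.fittingSubgroup G)) x hq (k := 2)
    (by rw [hx, sq, ← orderOf_dvd_iff_pow_eq_one, he])
  have h1 := (QuotientGroup.eq_one_iff _).mpr (pow_mem_fitting hss h hq hyo)
  have h2 : (g ^ (orderOf g / (q * q))) ^ q = 1 := by rw [← hx, ← hy, ← map_pow]; exact h1
  have h3 := Nat.le_of_dvd hq.pos (he ▸ orderOf_dvd_of_pow_eq_one h2)
  have := hq.two_le
  nlinarith

theorem commutator_pCore (h : PPSquarefree G) (r : ℕ) [Fact r.Prime] :
    Nat.card (⁅Cfsg.pCore r G, Cfsg.pCore r G⁆ : Subgroup G) ∣ r ∧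
      ⁅Cfsg.pCore r G, Cfsg.pCore r G⁆ ≤ centralizer (Cfsg.pCore r G : Set G) := by
  haveI := pCore_normal (G := G) r
  set P := Cfsg.pCore r G
  have hP : IsPGroup r P := pCore_isPGroup r
  obtain ⟨h1, h2⟩ := breadth_one hP (fun x => by
    have h3 : centralizer ({x} : Set P) = (centralizer ({x.1} : Set G)).subgroupOf P := by
      ext y
      simp only [mem_subgroupOf, mem_centralizer_singleton_iff, Subtype.ext_iff, Subgroup.coe_mul]
    rw [h3]
    exact relIndex_dvd_prime hP (h x.1 (isPP_of_mem hP x.2)))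
  rw [← Subgroup.map_subtype_commutator P]
  refine ⟨by rwa [Subgroup.card_map_of_injective P.subtype_injective], ?_⟩
  rintro _ ⟨c, hc, rfl⟩
  exact mem_centralizer_iff.mpr fun y hy =>
    congrArg Subtype.val (mem_center_iff.mp (h1 hc) ⟨y, hy⟩)

/-- The derived group of the Fitting subgroup has square-free order and is central in it. -/
theorem commutator_fitting (h : PPSquarefree G) :
    Squarefree (Nat.card (⁅Cfsg.fittingSubgroup G, Cfsg.fittingSubgroup G⁆ : Subgroup G)) ∧
      ⁅Cfsg.fittingSubgroup G, Cfsg.fittingSubgroup G⁆ ≤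
        centralizer (Cfsg.fittingSubgroup G : Set G) := by
  classical
  let O : Nat.Primes → Subgroup G := fun r => Cfsg.pCore (r : ℕ) G
  let D : Nat.Primes → Subgroup G := fun r => ⁅O r, O r⁆
  haveI hOn : ∀ r, (O r).Normal := fun r => pCore_normal (r : ℕ)
  have hOp : ∀ r : Nat.Primes, IsPGroup (r : ℕ) (O r) := fun r =>
    haveI := Fact.mk r.2
    pCore_isPGroup _
  have hdis : ∀ r s, r ≠ s → ⁅O r, O s⁆ = ⊥ := fun r s hrs => by
    haveI := Fact.mk r.2
    haveI := Fact.mk s.2
    exact le_bot_iff.mp ((Subgroup.commutator_le_inf (O r) (O s)).trans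
      (disjoint_iff_inf_le.mp (IsPGroup.disjoint_of_ne (r : ℕ) (s : ℕ)
        (fun e => hrs (Subtype.ext e)) _ _ (hOp r) (hOp s))))
  have hF : Cfsg.fittingSubgroup G = ⨆ r, O r := fitting_eq_iSup_pCore
  let E : Subgroup G := ⨆ r, D r
  haveI : ∀ r, (D r).Normal := fun r => inferInstance
  haveI : E.Normal := Subgroup.iSup_normal _
  have hle : ⁅Cfsg.fittingSubgroup G, Cfsg.fittingSubgroup G⁆ ≤ E := by
    let π := QuotientGroup.mk' E
    rw [← QuotientGroup.ker_mk' E, ← Subgroup.map_eq_bot_iff, Subgroup.map_commutator,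
      Subgroup.commutator_eq_bot_iff_le_centralizer, hF, Subgroup.map_iSup, iSup_le_iff]
    intro r
    rw [Subgroup.le_centralizer_iff, iSup_le_iff]
    intro s
    rw [← Subgroup.commutator_eq_bot_iff_le_centralizer, ← Subgroup.map_commutator,
      Subgroup.map_eq_bot_iff, QuotientGroup.ker_mk']
    rcases eq_or_ne s r with rfl | hsr
    · exact le_iSup D s
    · rw [hdis s r hsr]; exact bot_le
  constructor
  · refine Squarefree.squarefree_of_dvd (Subgroup.card_dvd_of_le hle) ?_
    rw [Nat.squarefree_iff_prime_squarefree]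
    intro q hq hdvd
    haveI := Fact.mk hq
    haveI := pPrimeCore_normal (G := G) q
    have hE : E ≤ Cfsg.pPrimeCore q G ⊔ D ⟨q, hq⟩ := iSup_le fun r => by
      haveI := Fact.mk r.2
      rcases eq_or_ne r ⟨q, hq⟩ with rfl | hrq
      · exact le_sup_right
      · refine le_trans ?_ le_sup_left
        refine (Subgroup.commutator_le_left (O r) (O r)).trans (normal_le_pPrimeCore ?_)
        obtain ⟨n, hn⟩ := IsPGroup.iff_card.mp (hOp r)
        rw [hn]
        exact Nat.Coprime.pow_left _ ((Nat.coprime_primes r.2 hq).mpr fun e => hrq (Subtype.ext e))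
    have h1 := (hdvd.trans (Subgroup.card_dvd_of_le hE)).trans (card_sup_dvd _ _)
    have h2 : (q * q).Coprime (Nat.card (Cfsg.pPrimeCore q G)) :=
      Nat.Coprime.mul_left (pPrimeCore_coprime q).symm (pPrimeCore_coprime q).symm
    have h3 := (h2.dvd_of_dvd_mul_left h1).trans (commutator_pCore h q).1
    have h4 := Nat.le_of_dvd hq.pos h3
    have := hq.two_le
    nlinarith
  · refine hle.trans (iSup_le fun r => ?_)
    rw [hF, Subgroup.le_centralizer_iff, iSup_le_iff]
    intro s
    rw [Subgroup.le_centralizer_iff]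
    rcases eq_or_ne s r with rfl | hsr
    · haveI := Fact.mk s.2
      exact (commutator_pCore h (s : ℕ)).2
    · refine (Subgroup.commutator_le_left (O r) (O r)).trans ?_
      rw [← Subgroup.commutator_eq_bot_iff_le_centralizer]
      exact hdis r s hsr.symm

theorem squarefree_commutator_fitting (h : PPSquarefree G) :
    Squarefree (Nat.card (commutator (Cfsg.fittingSubgroup G))) := by
  have h1 := (commutator_fitting h).1
  rwa [← Subgroup.map_subtype_commutator,
    Subgroup.card_map_of_injective (Subgroup.subtype_injective _)] at h1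

theorem derivedSeries_three (hss : Cfsg.IsSupersolvable G) (h : PPSquarefree G) :
    derivedSeries G 3 = ⊥ := by
  have h1 : derivedSeries G 1 ≤ Cfsg.fittingSubgroup G := by
    rw [derivedSeries_succ, derivedSeries_zero, ← _root_.commutator_def]
    exact commutator_le_fitting hss
  have h2 : derivedSeries G 2 ≤ ⁅Cfsg.fittingSubgroup G, Cfsg.fittingSubgroup G⁆ := by
    rw [derivedSeries_succ]
    exact Subgroup.commutator_mono h1 h1
  rw [derivedSeries_succ, Subgroup.commutator_eq_bot_iff_le_centralizer]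
  refine h2.trans ((commutator_fitting h).2.trans (Subgroup.centralizer_le ?_))
  exact h2.trans (Subgroup.commutator_le_self _)

end Cfsg.Agent.Solv.SquarefreeClass
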